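import Groth.Agent.Lib.Depth.HartogsUnit
import Groth.Agent.Lib.InvExt.Gen
import Groth.Agent.Lib.WeakAss.Basic
import Groth.Agent.Lib.Euler.Coh
import Groth.Agent.Lib.FiniteQuot.DepthDescent
import Groth.Agent.Lib.OX.LocFreeTensor

/-!
# Hartogs for invertible modules
-/

set_option autoImplicit false

universe u

open CategoryTheory CategoryTheory.Limits AlgebraicGeometry Opposite TopologicalSpace

namespace GrothLib.InvHartogs26

theorem stalk_bijective {A : Scheme.{u}} {L : A.Modules} {V : A.Opens} {e : Γ(L, V)}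
    (he : GrothLib.InvExt.IsGen L V e) {x : A} (hx : x ∈ V) :
    Function.Bijective (fun c : A.presheaf.stalk x => c • L.presheaf.germ V x hx e) := by
  have key : ∀ {W : A.Opens} (hW : W ≤ V) (hxW : x ∈ W) (c : Γ(A, W)),
      A.presheaf.germ W x hxW c • L.presheaf.germ V x hx e =
        L.presheaf.germ W x hxW (c • GrothLib.InvExt.mres L hW e) := fun {W} hW hxW c => by
    rw [GrothLib.WeakAss.germ_smul hxW, TopCat.Presheaf.germ_res_apply]
  constructor
  · intro c d h
    obtain ⟨W₁, hx₁, c, rfl⟩ := TopCat.Presheaf.exists_germ_eq A.presheaf c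
    obtain ⟨W₂, hx₂, d, rfl⟩ := TopCat.Presheaf.exists_germ_eq A.presheaf d
    let W := W₁ ⊓ W₂ ⊓ V
    have hxW : x ∈ W := ⟨⟨hx₁, hx₂⟩, hx⟩
    have h1 : W ≤ W₁ := inf_le_left.trans inf_le_left
    have h2 : W ≤ W₂ := inf_le_left.trans inf_le_right
    dsimp only at h
    rw [← TopCat.Presheaf.germ_res_apply A.presheaf (homOfLE h1) x hxW c,
      ← TopCat.Presheaf.germ_res_apply A.presheaf (homOfLE h2) x hxW d,
      key inf_le_right hxW, key inf_le_right hxW] at h
    obtain ⟨T, hxT, iU, iV, e'⟩ := TopCat.Presheaf.germ_eq L.presheaf x hxW hxW _ _ h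
    rw [Subsingleton.elim iV iU] at e'
    change GrothLib.InvExt.mres L iU.le _ = GrothLib.InvExt.mres L iU.le _ at e'
    rw [GrothLib.InvExt.mres_smul, GrothLib.InvExt.mres_smul, GrothLib.InvExt.mres_mres] at e'
    rw [← TopCat.Presheaf.germ_res_apply A.presheaf (homOfLE h1) x hxW c,
      ← TopCat.Presheaf.germ_res_apply A.presheaf (homOfLE h2) x hxW d,
      ← TopCat.Presheaf.germ_res_apply A.presheaf iU x hxT, ← TopCat.Presheaf.germ_res_apply A.presheaf iU x hxT]
    exact congrArg _ (he.smul_left_injective _ e')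
  · intro μ
    obtain ⟨W₁, hx₁, m, rfl⟩ := TopCat.Presheaf.exists_germ_eq L.presheaf μ
    obtain ⟨c, hc⟩ := he.exists_smul_eq (inf_le_right : W₁ ⊓ V ≤ V)
      (GrothLib.InvExt.mres L (inf_le_left : W₁ ⊓ V ≤ W₁) m)
    refine ⟨A.presheaf.germ (W₁ ⊓ V) x ⟨hx₁, hx⟩ c, ?_⟩
    dsimp only
    rw [key inf_le_right ⟨hx₁, hx⟩, ← hc]
    exact TopCat.Presheaf.germ_res_apply L.presheaf _ _ _ _

theorem depth_eq {A : Scheme.{u}} {L : A.Modules} (hL : PicF.IsInvertible L) (x : A) :
    LocCoh.depth (A.presheaf.stalk x) (L.presheaf.stalk x) =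
      LocCoh.depth (A.presheaf.stalk x) (A.presheaf.stalk x) := by
  obtain ⟨V, e, hx, he⟩ := GrothLib.InvExt.exists_gen_nhd hL x
  let φ : A.presheaf.stalk x ≃+ L.presheaf.stalk x :=
    AddEquiv.ofBijective (AddMonoidHom.mk' (fun c : A.presheaf.stalk x => c • L.presheaf.germ V x hx e)
      fun a b => add_smul a b _) (stalk_bijective he hx)
  unfold LocCoh.depth
  symm
  rw [GrothLib.FiniteQuot.idealDepth_congr (RingEquiv.refl (A.presheaf.stalk x)) φ
    (fun r c => mul_smul r c (L.presheaf.germ V x hx e))]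
  congr 1
  exact Ideal.map_id _

variable {X : Scheme.{u}} [IsLocallyNoetherian X] {U : X.Opens}
  (hU : ∀ x : X, x ∉ U → (2 : ℕ∞) ≤ LocCoh.depth (X.presheaf.stalk x) (X.presheaf.stalk x))

include hU

theorem map_bijective {L : X.Modules} (hL : PicF.IsInvertible L) :
    Function.Bijective (Depth.mres L (le_top : U ≤ ⊤)) := by
  haveI := (Euler.isCoh_of_isInvertible hL).1
  haveI := (Euler.isCoh_of_isInvertible hL).2
  exact Depth.mres_bijective_of_eq (fun x hx => (depth_eq hL x).ge.trans' (hU x hx)) le_top (top_inf_eq U).symm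

theorem nonempty_iso_of_restrict {L M : X.Modules} (hL : PicF.IsInvertible L) (hM : PicF.IsInvertible M)
    (e : L.restrict U.ι ≅ M.restrict U.ι) : Nonempty (L ≅ M) := by
  haveI := (Euler.isCoh_of_isInvertible hL).1
  haveI := (Euler.isCoh_of_isInvertible hL).2
  haveI := (Euler.isCoh_of_isInvertible hM).1
  haveI := (Euler.isCoh_of_isInvertible hM).2
  have hdL : ∀ x : X, x ∉ U → (2 : ℕ∞) ≤ LocCoh.depth (X.presheaf.stalk x) (L.presheaf.stalk x) :=
    fun x hx => (depth_eq hL x).ge.trans' (hU x hx)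
  have hdM : ∀ x : X, x ∉ U → (2 : ℕ∞) ≤ LocCoh.depth (X.presheaf.stalk x) (M.presheaf.stalk x) :=
    fun x hx => (depth_eq hM x).ge.trans' (hU x hx)
  obtain ⟨φ, hφ⟩ := (Depth.restrict_map_bijective (E := M) (F := L) hdM).2 e.hom
  obtain ⟨ψ, hψ⟩ := (Depth.restrict_map_bijective (E := L) (F := M) hdL).2 e.inv
  refine ⟨⟨φ, ψ, (Depth.restrict_map_bijective (E := L) (F := L) hdL).1 ?_,
    (Depth.restrict_map_bijective (E := M) (F := M) hdM).1 ?_⟩⟩
  all_goals
    simp only at hφ hψ ⊢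
    rw [Functor.map_comp, hφ, hψ, CategoryTheory.Functor.map_id]
  · exact e.hom_inv_id
  · exact e.inv_hom_id

end GrothLib.InvHartogs26
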